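import Mathlib

/-! helper7: rational points of nonzero smooth algebras over a separably closed field. -/

set_option linter.style.haveILetI false
set_option linter.unusedVariables false
set_option linter.unusedSectionVars false

open TensorProduct

namespace Groth.Agent.Helper7.SepPt

universe u

/-- A separably closed field is infinite. -/
theorem infinite_of_isSepClosed (k : Type u) [Field k] [IsSepClosed k] : Infinite k := by
  by_contra h
  haveI : Finite k := not_infinite_iff_finite.mp h
  haveI : PerfectField k := inferInstance
  haveI : IsAlgClosed k := inferInstance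
  exact h inferInstance

/-- A nonzero étale algebra over a separably closed field has a rational point. -/
theorem exists_algHom_of_etale_sepClosed (k C : Type u) [Field k] [IsSepClosed k] [CommRing C]
    [Algebra k C] [Algebra.Etale k C] [Nontrivial C] : Nonempty (C →ₐ[k] k) := by
  obtain ⟨I, _, Ai, _, _, e, H⟩ :=
    (Algebra.Etale.iff_exists_algEquiv_prod (K := k) (A := C)).mp inferInstance
  haveI : Nonempty I := by
    by_contra hI
    rw [not_nonempty_iff] at hI
    have : Subsingleton C := e.toEquiv.subsingleton
    exact not_subsingleton C this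
  obtain ⟨i⟩ := ‹Nonempty I›
  haveI := (H i).2
  have hbij := IsSepClosed.algebraMap_bijective (k := k) (K := Ai i)
  let e2 : k ≃ₐ[k] Ai i := AlgEquiv.ofBijective (Algebra.ofId k (Ai i)) hbij
  exact ⟨e2.symm.toAlgHom.comp ((Pi.evalAlgHom k Ai i).comp e.toAlgHom)⟩

/-- A nonzero smooth algebra over a separably closed field has a rational point. -/
theorem exists_algHom_of_smooth_sepClosed (k A : Type u) [Field k] [IsSepClosed k] [CommRing A]
    [Algebra k A] [Algebra.Smooth k A] [Nontrivial A] : Nonempty (A →ₐ[k] k) := by
  classical
  obtain ⟨p, hp⟩ := Ideal.exists_maximal A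
  haveI : p.IsPrime := hp.isPrime
  haveI : Algebra.FinitePresentation k A := Algebra.Smooth.finitePresentation
  haveI : Algebra.IsSmoothAt k p := by
    have h1 : Algebra.FormallySmooth A (Localization.AtPrime p) :=
      Algebra.FormallySmooth.of_isLocalization p.primeCompl
    exact Algebra.FormallySmooth.comp k A (Localization.AtPrime p)
  obtain ⟨f, hf, n, alg, hst, hse⟩ :=
    Algebra.IsSmoothAt.exists_isStandardEtale_mvPolynomial (R := k) (p := p)
  -- `B := A_f` is nontrivial
  haveI : Nontrivial (Localization.Away f) := by
    have hunit : IsUnit (algebraMap A (Localization.AtPrime p) f) :=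
      IsLocalization.map_units (Localization.AtPrime p) (⟨f, hf⟩ : p.primeCompl)
    exact RingHom.domain_nontrivial (IsLocalization.Away.lift f hunit)
  haveI : Algebra.Etale (MvPolynomial (Fin n) k) (Localization.Away f) := inferInstance
  have hopen : IsOpenMap (PrimeSpectrum.comap
      (algebraMap (MvPolynomial (Fin n) k) (Localization.Away f))) :=
    PrimeSpectrum.isOpenMap_comap_of_hasGoingDown_of_finitePresentation
  have hrange := hopen.isOpen_range
  obtain ⟨q0⟩ : Nonempty (PrimeSpectrum (Localization.Away f)) := inferInstance
  obtain ⟨_, ⟨_, ⟨h, rfl⟩, rfl⟩, hq0, hsub⟩ :=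
    PrimeSpectrum.isBasis_basic_opens.exists_subset_of_mem_open (Set.mem_range_self q0) hrange
  have hh : h ≠ 0 := by
    rintro rfl
    simp at hq0
  haveI : Infinite k := infinite_of_isSepClosed k
  obtain ⟨a, ha⟩ : ∃ a : Fin n → k, MvPolynomial.eval a h ≠ 0 := by
    by_contra hcon
    push Not at hcon
    exact hh (MvPolynomial.funext (fun a => by simpa using hcon a))
  -- the maximal ideal of the point `a`
  let ev : MvPolynomial (Fin n) k →ₐ[k] k := MvPolynomial.aeval a
  haveI hmaP : (RingHom.ker ev.toRingHom).IsPrime := RingHom.ker_isPrime ev.toRingHom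
  have hma : (⟨RingHom.ker ev.toRingHom, hmaP⟩ : PrimeSpectrum (MvPolynomial (Fin n) k)) ∈
      (PrimeSpectrum.basicOpen h : Set _) := by
    change h ∉ RingHom.ker ev.toRingHom
    rw [RingHom.mem_ker]
    simpa [ev, MvPolynomial.aeval_def, MvPolynomial.eval₂_eq_eval_map] using ha
  obtain ⟨q, hq⟩ := hsub hma
  -- `k` as an algebra over the polynomial ring via evaluation at `a`
  letI algPk : Algebra (MvPolynomial (Fin n) k) k := ev.toRingHom.toAlgebra
  haveI : IsScalarTower k (MvPolynomial (Fin n) k) k :=
    IsScalarTower.of_algebraMap_eq (fun x => by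
      simp [RingHom.algebraMap_toAlgebra, ev])
  haveI : Algebra.Etale k (k ⊗[MvPolynomial (Fin n) k] Localization.Away f) := inferInstance
  -- nontriviality of the fibre
  haveI : Nontrivial (k ⊗[MvPolynomial (Fin n) k] Localization.Away f) := by
    let f₁ : k →ₐ[MvPolynomial (Fin n) k] q.asIdeal.ResidueField :=
      { (algebraMap k q.asIdeal.ResidueField) with
        commutes' := by
          intro x
          change algebraMap k q.asIdeal.ResidueField (ev x) =
            algebraMap (MvPolynomial (Fin n) k) q.asIdeal.ResidueField x
          rw [IsScalarTower.algebraMap_apply k (MvPolynomial (Fin n) k) q.asIdeal.ResidueField,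
            ← sub_eq_zero, ← map_sub,
            IsScalarTower.algebraMap_apply (MvPolynomial (Fin n) k) (Localization.Away f)
              q.asIdeal.ResidueField, Ideal.algebraMap_residueField_eq_zero]
          have : (MvPolynomial.C (ev x) - x) ∈
              (PrimeSpectrum.comap (algebraMap (MvPolynomial (Fin n) k) (Localization.Away f))
                q).asIdeal := by
            rw [hq]
            change _ ∈ RingHom.ker ev.toRingHom
            rw [RingHom.mem_ker]
            simp [ev]
          exact this }
    let g : k ⊗[MvPolynomial (Fin n) k] Localization.Away f →ₐ[MvPolynomial (Fin n) k]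
        q.asIdeal.ResidueField :=
      Algebra.TensorProduct.lift f₁ (IsScalarTower.toAlgHom _ _ _) (fun _ _ => Commute.all ..)
    exact RingHom.domain_nontrivial g.toRingHom
  obtain ⟨φ⟩ := exists_algHom_of_etale_sepClosed k
    (k ⊗[MvPolynomial (Fin n) k] Localization.Away f)
  let ψ : A →+* k := φ.toRingHom.comp
    ((Algebra.TensorProduct.includeRight (R := MvPolynomial (Fin n) k) (A := k)
      (B := Localization.Away f)).toRingHom.comp (algebraMap A (Localization.Away f)))
  refine ⟨{ ψ with commutes' := ?_ }⟩
  intro c
  change φ ((1 : k) ⊗ₜ[MvPolynomial (Fin n) k]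
    (algebraMap A (Localization.Away f) (algebraMap k A c))) = c
  rw [← IsScalarTower.algebraMap_apply k A (Localization.Away f),
    IsScalarTower.algebraMap_apply k (MvPolynomial (Fin n) k) (Localization.Away f),
    Algebra.algebraMap_eq_smul_one (A := Localization.Away f), ← TensorProduct.smul_tmul]
  have h1 : ((algebraMap k (MvPolynomial (Fin n) k)) c • (1 : k)) = c := by
    rw [Algebra.smul_def, RingHom.algebraMap_toAlgebra]
    simp [ev]
  rw [h1]
  have h2 : c ⊗ₜ[MvPolynomial (Fin n) k] (1 : Localization.Away f) =
      algebraMap k (k ⊗[MvPolynomial (Fin n) k] Localization.Away f) c := by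
    rw [Algebra.TensorProduct.algebraMap_apply]
    rfl
  rw [h2, φ.commutes]
  rfl

end Groth.Agent.Helper7.SepPt
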