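import Mathlib
import Groth.Agent.Lib.Helper7.SepPt.Alg
import Groth.Agent.Lib.Helper7.SmoothBC.GeomRed

/-! helper7: a nonempty geometrically reduced scheme locally of finite type over a separably
closed field has a rational point. -/

set_option linter.style.haveILetI false
set_option linter.unusedVariables false
set_option linter.unusedSectionVars false

open CategoryTheory CategoryTheory.Limits AlgebraicGeometry TopologicalSpace

namespace Groth.Agent.Helper7.SepPt

universe u

/-- A nonempty affine scheme smooth over a separably closed field has a rational point. -/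
theorem exists_section_of_smooth_affine (k : Type u) [Field k] [IsSepClosed k] {Z : Scheme.{u}}
    (hZ : ∃ R, Z = Spec R) [Nonempty Z]
    (q : Z ⟶ Spec (CommRingCat.of k)) [Smooth q] :
    ∃ s : Spec (CommRingCat.of k) ⟶ Z, s ≫ q = 𝟙 _ := by
  obtain ⟨R, rfl⟩ := hZ
  obtain ⟨φ, rfl⟩ := Spec.map_surjective q
  have hφ : φ.hom.Smooth := (HasRingHomProperty.Spec_iff (P := @Smooth)).mp inferInstance
  algebraize [φ.hom]
  haveI : Nontrivial R := by
    have : Nonempty (PrimeSpectrum R) := ‹Nonempty (Spec R)›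
    exact (PrimeSpectrum.nonempty_iff_nontrivial).mp this
  obtain ⟨ψ⟩ := exists_algHom_of_smooth_sepClosed k R
  refine ⟨Spec.map (CommRingCat.ofHom ψ.toRingHom), ?_⟩
  rw [← Spec.map_comp, ← Spec.map_id]
  congr 1
  ext x
  exact ψ.commutes x

theorem exists_section_of_geometricallyReduced (k : Type u) [Field k] [IsSepClosed k]
    {X : Scheme.{u}} (f : X ⟶ Spec (CommRingCat.of k)) [LocallyOfFiniteType f]
    [GeometricallyReduced f] [Nonempty X] :
    ∃ s : Spec (CommRingCat.of k) ⟶ X, s ≫ f = 𝟙 (Spec (CommRingCat.of k)) := by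
  haveI : AlgebraicGeometry.IsReduced X :=
    GeometricallyReduced.geometrically_isReduced (f := f) (𝟙 _) (𝟙 _) _ (IsPullback.id_horiz _)
  obtain ⟨U, hUd, hUs⟩ :=
    (Groth.Agent.Helper7.SmoothBC.geometricallyReduced_iff_dense_smooth_open k X f).mp inferInstance
  obtain ⟨x, hx⟩ := hUd.nonempty
  let i := (U.toScheme.affineCover).idx ⟨x, hx⟩
  obtain ⟨z, hz⟩ := (U.toScheme.affineCover).covers ⟨x, hx⟩
  haveI : Nonempty ((U.toScheme.affineCover).X i) := ⟨z⟩
  haveI : Smooth ((U.toScheme.affineCover).f i ≫ U.ι ≫ f) := inferInstance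
  obtain ⟨s, hs⟩ := exists_section_of_smooth_affine k (Z := (U.toScheme.affineCover).X i)
    ⟨_, rfl⟩ ((U.toScheme.affineCover).f i ≫ U.ι ≫ f)
  exact ⟨s ≫ (U.toScheme.affineCover).f i ≫ U.ι, by simpa using hs⟩

end Groth.Agent.Helper7.SepPt
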