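import Mathlib
import Groth.Agent.Lib.Helper7.SepPt.Alg

/-! helper7: a nonzero smooth algebra over a field has a maximal ideal with finite separable
residue field (via an étale chart and a rational point of affine space, or perfectness when
the field is finite). -/

set_option linter.style.haveILetI false
set_option linter.unusedVariables false
set_option linter.unusedSectionVars false

open TensorProduct

namespace Groth.Agent.Helper7.SepPt

universe u

/-- A nonzero smooth algebra over an infinite field maps to a nonzero étale algebra
(the fibre of an étale chart over a rational point of affine space). -/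
theorem exists_etale_fibre_of_smooth (k A : Type u) [Field k] [Infinite k] [CommRing A]
    [Algebra k A] [Algebra.Smooth k A] [Nontrivial A] :
    ∃ (C : Type u) (_ : CommRing C) (_ : Algebra k C) (_ : A →ₐ[k] C),
      Algebra.Etale k C ∧ Nontrivial C := by
  classical
  obtain ⟨p, hp⟩ := Ideal.exists_maximal A
  haveI : p.IsPrime := hp.isPrime
  haveI : Algebra.FinitePresentation k A := Algebra.Smooth.finitePresentation
  haveI : Algebra.IsSmoothAt k p := by
    have h1 : Algebra.FormallySmooth A (Localization.AtPrime p) :=
      Algebra.FormallySmooth.of_isLocalization p.primeCompl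
    exact Algebra.FormallySmooth.comp k A (Localization.AtPrime p)
  obtain ⟨f, hf, n, alg, hst, hse⟩ :=
    Algebra.IsSmoothAt.exists_isStandardEtale_mvPolynomial (R := k) (p := p)
  haveI : Nontrivial (Localization.Away f) := by
    have hunit : IsUnit (algebraMap A (Localization.AtPrime p) f) :=
      IsLocalization.map_units (Localization.AtPrime p) (⟨f, hf⟩ : p.primeCompl)
    exact RingHom.domain_nontrivial (IsLocalization.Away.lift f hunit)
  haveI : Algebra.Etale (MvPolynomial (Fin n) k) (Localization.Away f) := inferInstance
  have hopen : IsOpenMap (PrimeSpectrum.comap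
      (algebraMap (MvPolynomial (Fin n) k) (Localization.Away f))) :=
    PrimeSpectrum.isOpenMap_comap_of_hasGoingDown_of_finitePresentation
  have hrange := hopen.isOpen_range
  obtain ⟨q0⟩ : Nonempty (PrimeSpectrum (Localization.Away f)) := inferInstance
  obtain ⟨_, ⟨_, ⟨h, rfl⟩, rfl⟩, hq0, hsub⟩ :=
    PrimeSpectrum.isBasis_basic_opens.exists_subset_of_mem_open (Set.mem_range_self q0) hrange
  have hh : h ≠ 0 := by
    rintro rfl
    simp at hq0
  obtain ⟨a, ha⟩ : ∃ a : Fin n → k, MvPolynomial.eval a h ≠ 0 := by
    by_contra hcon
    push Not at hcon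
    exact hh (MvPolynomial.funext (fun a => by simpa using hcon a))
  let ev : MvPolynomial (Fin n) k →ₐ[k] k := MvPolynomial.aeval a
  haveI hmaP : (RingHom.ker ev.toRingHom).IsPrime := RingHom.ker_isPrime ev.toRingHom
  have hma : (⟨RingHom.ker ev.toRingHom, hmaP⟩ : PrimeSpectrum (MvPolynomial (Fin n) k)) ∈
      (PrimeSpectrum.basicOpen h : Set _) := by
    change h ∉ RingHom.ker ev.toRingHom
    rw [RingHom.mem_ker]
    simpa [ev, MvPolynomial.aeval_def, MvPolynomial.eval₂_eq_eval_map] using ha
  obtain ⟨q, hq⟩ := hsub hma
  letI algPk : Algebra (MvPolynomial (Fin n) k) k := ev.toRingHom.toAlgebra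
  haveI : IsScalarTower k (MvPolynomial (Fin n) k) k :=
    IsScalarTower.of_algebraMap_eq (fun x => by
      simp [RingHom.algebraMap_toAlgebra, ev])
  haveI hCet : Algebra.Etale k (k ⊗[MvPolynomial (Fin n) k] Localization.Away f) := inferInstance
  haveI hCnt : Nontrivial (k ⊗[MvPolynomial (Fin n) k] Localization.Away f) := by
    let f₁ : k →ₐ[MvPolynomial (Fin n) k] q.asIdeal.ResidueField :=
      { (algebraMap k q.asIdeal.ResidueField) with
        commutes' := by
          intro x
          change algebraMap k q.asIdeal.ResidueField (ev x) =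
            algebraMap (MvPolynomial (Fin n) k) q.asIdeal.ResidueField x
          rw [IsScalarTower.algebraMap_apply k (MvPolynomial (Fin n) k) q.asIdeal.ResidueField,
            ← sub_eq_zero, ← map_sub,
            IsScalarTower.algebraMap_apply (MvPolynomial (Fin n) k) (Localization.Away f)
              q.asIdeal.ResidueField, Ideal.algebraMap_residueField_eq_zero]
          have : (MvPolynomial.C (ev x) - x) ∈
              (PrimeSpectrum.comap (algebraMap (MvPolynomial (Fin n) k) (Localization.Away f))
                q).asIdeal := by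
            rw [hq]
            change _ ∈ RingHom.ker ev.toRingHom
            rw [RingHom.mem_ker]
            simp [ev]
          exact this }
    let g : k ⊗[MvPolynomial (Fin n) k] Localization.Away f →ₐ[MvPolynomial (Fin n) k]
        q.asIdeal.ResidueField :=
      Algebra.TensorProduct.lift f₁ (IsScalarTower.toAlgHom _ _ _) (fun _ _ => Commute.all ..)
    exact RingHom.domain_nontrivial g.toRingHom
  let ψ : A →+* k ⊗[MvPolynomial (Fin n) k] Localization.Away f :=
    (Algebra.TensorProduct.includeRight (R := MvPolynomial (Fin n) k) (A := k)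
      (B := Localization.Away f)).toRingHom.comp (algebraMap A (Localization.Away f))
  refine ⟨k ⊗[MvPolynomial (Fin n) k] Localization.Away f, inferInstance, inferInstance,
    { ψ with commutes' := ?_ }, hCet, hCnt⟩
  intro c
  change ((1 : k) ⊗ₜ[MvPolynomial (Fin n) k]
    (algebraMap A (Localization.Away f) (algebraMap k A c))) = _
  rw [← IsScalarTower.algebraMap_apply k A (Localization.Away f),
    IsScalarTower.algebraMap_apply k (MvPolynomial (Fin n) k) (Localization.Away f),
    Algebra.algebraMap_eq_smul_one (A := Localization.Away f), ← TensorProduct.smul_tmul]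
  have h1 : ((algebraMap k (MvPolynomial (Fin n) k)) c • (1 : k)) = c := by
    rw [Algebra.smul_def, RingHom.algebraMap_toAlgebra]
    simp [ev]
  rw [h1, Algebra.TensorProduct.algebraMap_apply]
  rfl

/-- A nonzero smooth algebra over a field maps to a finite separable field extension. -/
theorem exists_algHom_finite_separable_of_smooth (k A : Type u) [Field k] [CommRing A]
    [Algebra k A] [Algebra.Smooth k A] [Nontrivial A] :
    ∃ (L : Type u) (_ : Field L) (_ : Algebra k L) (_ : A →ₐ[k] L),
      Module.Finite k L ∧ Algebra.IsSeparable k L := by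
  by_cases hk : Infinite k
  · obtain ⟨C, _, _, ψ, hCet, hCnt⟩ := exists_etale_fibre_of_smooth k A
    obtain ⟨I, _, Ai, _, _, e, H⟩ :=
      (Algebra.Etale.iff_exists_algEquiv_prod (K := k) (A := C)).mp hCet
    haveI : Nonempty I := by
      by_contra hI
      rw [not_nonempty_iff] at hI
      have : Subsingleton C := e.toEquiv.subsingleton
      exact not_subsingleton C this
    obtain ⟨i⟩ := ‹Nonempty I›
    exact ⟨Ai i, inferInstance, inferInstance,
      ((Pi.evalAlgHom k Ai i).comp e.toAlgHom).comp ψ, H i⟩
  · haveI : Finite k := not_infinite_iff_finite.mp hk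
    haveI : PerfectField k := inferInstance
    obtain ⟨m, hm⟩ := Ideal.exists_maximal A
    letI : Field (A ⧸ m) := Ideal.Quotient.field m
    haveI : Algebra.FinitePresentation k A := Algebra.Smooth.finitePresentation
    haveI : Algebra.FiniteType k A := inferInstance
    haveI : Module.Finite k (A ⧸ m) := finite_of_finite_type_of_isJacobsonRing k (A ⧸ m)
    haveI : Algebra.IsAlgebraic k (A ⧸ m) := Algebra.IsAlgebraic.of_finite k (A ⧸ m)
    exact ⟨A ⧸ m, inferInstance, inferInstance, Ideal.Quotient.mkₐ k m, inferInstance,
      Algebra.IsAlgebraic.isSeparable_of_perfectField⟩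

/-- The kernel of an algebra map to a finite separable field extension is a maximal ideal
with finite separable residue field. -/
theorem exists_maximal_finite_separable_of_smooth (k A : Type u) [Field k] [CommRing A]
    [Algebra k A] [Algebra.Smooth k A] [Nontrivial A] :
    ∃ (m : Ideal A) (hm : m.IsMaximal),
      letI : Field (A ⧸ m) := Ideal.Quotient.field m
      Module.Finite k (A ⧸ m) ∧ Algebra.IsSeparable k (A ⧸ m) := by
  obtain ⟨L, _, _, ψ, hfin, hsep⟩ := exists_algHom_finite_separable_of_smooth k A
  let m : Ideal A := RingHom.ker ψ.toRingHom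
  let ι : A ⧸ m →ₐ[k] L := Ideal.Quotient.liftₐ m ψ (fun a ha => ha)
  have hι : Function.Injective ι := by
    rw [injective_iff_map_eq_zero]
    intro x hx
    obtain ⟨a, rfl⟩ := Ideal.Quotient.mk_surjective x
    rw [Ideal.Quotient.eq_zero_iff_mem]
    exact hx
  haveI : Module.Finite k (A ⧸ m) := Module.Finite.of_injective ι.toLinearMap hι
  haveI : IsDomain (A ⧸ m) := hι.isDomain ι.toRingHom
  haveI : Algebra.IsIntegral k (A ⧸ m) := Algebra.IsIntegral.of_finite k (A ⧸ m)
  have hfield : IsField (A ⧸ m) := isField_of_isIntegral_of_isField' (R := k) (Field.toIsField k)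
  have hm : m.IsMaximal := Ideal.Quotient.maximal_of_isField m hfield
  refine ⟨m, hm, ?_⟩
  letI : Field (A ⧸ m) := Ideal.Quotient.field m
  refine ⟨inferInstance, ?_⟩
  letI : Algebra (A ⧸ m) L := ι.toRingHom.toAlgebra
  haveI : IsScalarTower k (A ⧸ m) L := IsScalarTower.of_algebraMap_eq (fun x => (ι.commutes x).symm)
  exact Algebra.isSeparable_tower_bot_of_isSeparable k (A ⧸ m) L

end Groth.Agent.Helper7.SepPt
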