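import Mathlib
import Groth.Prelude.Def_CurvBase
import Groth.Agent.Lib.Helper7.SepPt.Fib
import Groth.Agent.Lib.Helper4.DimFT3

/-! helper7: on a smooth scheme over a field the closed points with finite separable residue
field are dense. -/

set_option linter.style.haveILetI false
set_option linter.unusedVariables false
set_option linter.unusedSectionVars false
set_option autoImplicit false

open CategoryTheory CategoryTheory.Limits AlgebraicGeometry TopologicalSpace
open Groth.Agent.Lib.Helper4.NormFibre2 Groth.Agent.Lib.Helper4.RadBir3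
open Groth.Agent.Lib.Helper4.DimFT3

attribute [local instance] Curv2.resAlgebra

namespace Groth.Agent.Helper7.SepPt

universe u

theorem dense_closedPoints_separable (k : Type u) [Field k] (X : Scheme.{u})
    [X.Over (Spec (CommRingCat.of k))] [Smooth (X ↘ (Spec (CommRingCat.of k)))] :
    Dense {x : X | IsClosed ({x} : Set X) ∧ FiniteDimensional k (X.residueField x) ∧
      Algebra.IsSeparable k (X.residueField x)} := by
  haveI : LocallyOfFiniteType (X ↘ (Spec (CommRingCat.of k))) := inferInstance
  haveI : JacobsonSpace X := LocallyOfFiniteType.jacobsonSpace (X ↘ (Spec (CommRingCat.of k)))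
  rw [dense_iff_inter_open]
  rintro W hW ⟨w, hw⟩
  obtain ⟨U, hU, hwU, hUW⟩ :=
    Opens.isBasis_iff_nbhd.mp X.isBasis_affineOpens (U := ⟨W, hW⟩) hw
  have hU : IsAffineOpen U := hU
  letI algA := secAlgebra k X U
  haveI : Algebra.Smooth k Γ(X, U) := by
    rw [← RingHom.smooth_algebraMap]
    have h1 : ((X ↘ Spec (CommRingCat.of k)).appLE ⊤ U le_top).hom.Smooth :=
      (X ↘ Spec (CommRingCat.of k)).smooth_appLE (isAffineOpen_top _) hU le_top
    have h2 : (Scheme.ΓSpecIso (CommRingCat.of k)).inv.hom.Smooth :=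
      RingHom.Smooth.of_bijective
        (ConcreteCategory.bijective_of_isIso (Scheme.ΓSpecIso (CommRingCat.of k)).inv)
    have h3 : (secMap k X U).Smooth := by
      rw [secMap_eq]
      exact h2.comp h1
    exact h3
  haveI : Nonempty U := ⟨⟨w, hwU⟩⟩
  haveI : Nontrivial Γ(X, U) := by
    have hne : Nonempty (Spec Γ(X, U)) := ⟨hU.primeIdealOf ⟨w, hwU⟩⟩
    exact (PrimeSpectrum.nonempty_iff_nontrivial).mp hne
  obtain ⟨m, hm, hfin, hsep⟩ := exists_maximal_finite_separable_of_smooth k Γ(X, U)
  haveI hmp : m.IsPrime := hm.isPrime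
  let y : Spec Γ(X, U) := ⟨m, hmp⟩
  let x : X := hU.fromSpec y
  have hx : x ∈ U := by
    have : x ∈ Set.range hU.fromSpec := ⟨y, rfl⟩
    rw [hU.range_fromSpec] at this
    exact this
  have hprime : hU.primeIdealOf ⟨x, hx⟩ = y := by
    apply hU.fromSpec.isOpenEmbedding.injective
    exact hU.fromSpec_primeIdealOf ⟨x, hx⟩
  have hker : RingHom.ker (rho x hx) = m := by
    rw [ker_rho hU x hx, hprime]
  -- `rho` is surjective since `m` is maximal
  have hsurj : Function.Surjective (rho x hx) := by
    intro c
    obtain ⟨s, a, hs, hsa⟩ := exists_frac_rho hU x hx c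
    rw [hprime] at hs
    have hs' : s ∉ m := hs
    obtain ⟨t, ht⟩ := (Ideal.Quotient.maximal_ideal_iff_isField_quotient m).mp hm |>.mul_inv_cancel
      (a := Ideal.Quotient.mk m s) (by rwa [Ne, Ideal.Quotient.eq_zero_iff_mem])
    obtain ⟨t, rfl⟩ := Ideal.Quotient.mk_surjective t
    have h1 : s * t - 1 ∈ m := by
      rw [← Ideal.Quotient.eq_zero_iff_mem, map_sub, map_mul, ht, map_one, sub_self]
    have h2 : rho x hx (s * t - 1) = 0 := by
      rw [← RingHom.mem_ker, hker]; exact h1
    rw [map_sub, map_mul, map_one, sub_eq_zero] at h2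
    refine ⟨t * a, ?_⟩
    rw [map_mul, ← hsa, ← mul_assoc, mul_comm (rho x hx t), h2, one_mul]
  -- the algebra map
  let rhoA : Γ(X, U) →ₐ[k] X.residueField x :=
    { rho x hx with
      commutes' := by
        intro c
        have h1 : algebraMap k (X.residueField x) c = Curv2.resMap k X x c := rfl
        rw [h1, Groth.Agent.Lib.Helper4.DimFT3.resMap_eq k X x hx]
        rfl }
  have hsurjA : Function.Surjective rhoA := hsurj
  let e0 : (Γ(X, U) ⧸ RingHom.ker rhoA.toRingHom) ≃ₐ[k] X.residueField x :=
    Ideal.quotientKerAlgEquivOfSurjective hsurjA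
  have hkerA : RingHom.ker rhoA.toRingHom = m := hker
  refine ⟨x, hUW hx, ?_, ?_, ?_⟩
  · -- closedness
    apply isClosed_singleton_of_isLocallyClosed_singleton
    have hcl : IsClosed ({y} : Set (Spec Γ(X, U))) :=
      (PrimeSpectrum.isClosed_singleton_iff_isMaximal y).mpr hm
    have := hcl.isLocallyClosed.image hU.fromSpec.isOpenEmbedding.isInducing
      hU.fromSpec.isOpenEmbedding.isOpen_range.isLocallyClosed
    rwa [Set.image_singleton] at this
  · rw [hkerA] at e0
    haveI := hfin
    exact Module.Finite.equiv e0.toLinearEquiv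
  · rw [hkerA] at e0
    haveI := hsep
    exact AlgEquiv.Algebra.isSeparable e0

end Groth.Agent.Helper7.SepPt
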